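import Cfsg.Agent.EqLemmas

/-!
# Sylow 2-subgroups of type `Z/2^m × Z/2^m`

* `relIndex_one_or_three` : `|N(P) : C(P)|` is 1 or 3.
* `mem_centralizer_of_fixes` : if it is not 1, only `C(P)` fixes a non-identity element of `P`.
* `exists_conj_involution` : if it is not 1, `N(P)` permutes the involutions of `P` transitively.
-/

set_option autoImplicit false

namespace Cfsg.Agent.Homocyclic

lemma zmod_two_torsion (k : ℕ) (x : ZMod (2 ^ (k + 1))) (hx : x + x = 0) :
    x = 0 ∨ x = ((2 ^ k : ℕ) : ZMod (2 ^ (k + 1))) := by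
  have h1 : ((x.val + x.val : ℕ) : ZMod (2 ^ (k + 1))) = 0 := by push_cast [ZMod.natCast_zmod_val]; exact hx
  rw [ZMod.natCast_eq_zero_iff] at h1
  obtain ⟨c, hc⟩ := h1
  have hlt : x.val < 2 ^ (k + 1) := ZMod.val_lt x
  have hpow : 2 ^ (k + 1) = 2 * 2 ^ k := pow_succ' 2 k
  rcases Nat.lt_or_ge c 2 with h | h
  · interval_cases c
    · left
      exact (ZMod.val_eq_zero x).mp (by omega)
    · right
      conv_lhs => rw [← ZMod.natCast_zmod_val x]
      congr 1
      omega
  · exfalso
    have := Nat.mul_le_mul_left (2 ^ (k + 1)) h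
    omega

lemma card_involutions (m : ℕ) (hm : 1 ≤ m) :
    Nat.card {z : Multiplicative (ZMod (2 ^ m) × ZMod (2 ^ m)) // z * z = 1 ∧ z ≠ 1} = 3 := by
  obtain ⟨k, rfl⟩ : ∃ k, m = k + 1 := ⟨m - 1, by omega⟩
  classical
  set c : ZMod (2 ^ (k + 1)) := ((2 ^ k : ℕ) : ZMod (2 ^ (k + 1))) with hc
  have hcc : c + c = 0 := by
    rw [hc, ← Nat.cast_add, ← two_mul, ← pow_succ']
    exact ZMod.natCast_self _
  have hc0 : c ≠ 0 := by
    rw [hc, Ne, ZMod.natCast_eq_zero_iff]
    intro h
    have := Nat.le_of_dvd (by positivity) h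
    rw [pow_succ'] at this
    have : 0 < 2 ^ k := by positivity
    omega
  have : Nat.card {z : Multiplicative (ZMod (2 ^ (k + 1)) × ZMod (2 ^ (k + 1))) // z * z = 1 ∧ z ≠ 1}
      = ({Multiplicative.ofAdd (c, (0 : ZMod (2 ^ (k + 1)))), Multiplicative.ofAdd ((0 : ZMod (2 ^ (k + 1))), c),
          Multiplicative.ofAdd (c, c)} : Finset (Multiplicative (ZMod (2 ^ (k + 1)) × ZMod (2 ^ (k + 1))))).card := by
    rw [← Nat.card_eq_finsetCard]
    apply Nat.card_congr
    refine Equiv.subtypeEquivRight fun z => ?_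
    simp only [Finset.mem_insert, Finset.mem_singleton]
    constructor
    · rintro ⟨hz, hz1⟩
      have h' : z.toAdd + z.toAdd = 0 := by rw [← toAdd_mul, hz, toAdd_one]
      rcases zmod_two_torsion k z.toAdd.1 (congrArg Prod.fst h') with ha | ha <;>
        rcases zmod_two_torsion k z.toAdd.2 (congrArg Prod.snd h') with hb | hb
      · exact absurd (Multiplicative.toAdd.injective (Prod.ext ha hb)) hz1
      · exact Or.inr (Or.inl (Multiplicative.toAdd.injective (Prod.ext ha hb)))
      · exact Or.inl (Multiplicative.toAdd.injective (Prod.ext ha hb))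
      · exact Or.inr (Or.inr (Multiplicative.toAdd.injective (Prod.ext ha hb)))
    · rintro (rfl | rfl | rfl) <;>
        exact ⟨by rw [← ofAdd_add]; simp [hcc], by simp [hc0]⟩
  rw [this]
  simp [Prod.ext_iff, hc0, Ne.symm hc0, Finset.card_insert_of_notMem]

lemma perm3_fix {V : Type*} (hV : Nat.card V = 3) (σ : Equiv.Perm V) (w : V)
    (h3 : σ ^ 3 = 1) (hw : σ w = w) : σ = 1 := by
  haveI : Finite V := Nat.finite_of_card_ne_zero (by omega)
  obtain e := Finite.equivFinOfCardEq hV
  have key : ∀ τ : Equiv.Perm (Fin 3), ∀ i, τ ^ 3 = 1 → τ i = i → τ = 1 := by decide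
  have h := key (e.permCongrHom σ) (e w) (by rw [← map_pow, h3, map_one])
    (by simp [hw])
  exact e.permCongrHom.injective (by rw [h, map_one])

variable {G : Type*} [Group G] (P : Subgroup G)

/-- The involutions of `P`. -/
abbrev Invol := {z : P // z * z = 1 ∧ z ≠ 1}

/-- Conjugation action of the normaliser on the involutions of `P`. -/
noncomputable def conjPerm : Subgroup.normalizer (P : Set G) →* Equiv.Perm (Invol P) where
  toFun n :=
    { toFun := fun z => ⟨⟨(n : G) * (z.1 : G) * (n : G)⁻¹,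
        (Subgroup.mem_normalizer_iff.mp n.2 _).mp z.1.2⟩, by
          refine ⟨Subtype.ext ?_, fun h => z.2.2 (Subtype.ext ?_)⟩
          · show (n : G) * (z.1 : G) * (n : G)⁻¹ * ((n : G) * (z.1 : G) * (n : G)⁻¹) = 1
            have : (z.1 : G) * (z.1 : G) = 1 := congrArg Subtype.val z.2.1
            calc _ = (n : G) * ((z.1 : G) * (z.1 : G)) * (n : G)⁻¹ := by group
              _ = 1 := by rw [this]; group
          · have h' : (n : G) * (z.1 : G) * (n : G)⁻¹ = 1 := congrArg Subtype.val h
            show (z.1 : G) = 1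
            rwa [mul_inv_eq_one, mul_eq_left] at h'⟩
      invFun := fun z => ⟨⟨(n : G)⁻¹ * (z.1 : G) * (n : G),
        (Subgroup.mem_normalizer_iff''.mp n.2 _).mp z.1.2⟩, by
          refine ⟨Subtype.ext ?_, fun h => z.2.2 (Subtype.ext ?_)⟩
          · show (n : G)⁻¹ * (z.1 : G) * (n : G) * ((n : G)⁻¹ * (z.1 : G) * (n : G)) = 1
            have : (z.1 : G) * (z.1 : G) = 1 := congrArg Subtype.val z.2.1
            calc _ = (n : G)⁻¹ * ((z.1 : G) * (z.1 : G)) * (n : G) := by group
              _ = 1 := by rw [this]; group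
          · have h' : (n : G)⁻¹ * (z.1 : G) * (n : G) = 1 := congrArg Subtype.val h
            show (z.1 : G) = 1
            rwa [mul_assoc, inv_mul_eq_one, eq_comm, mul_eq_right] at h'⟩
      left_inv := fun z => Subtype.ext (Subtype.ext (by simp [mul_assoc]))
      right_inv := fun z => Subtype.ext (Subtype.ext (by simp [mul_assoc])) }
  map_one' := by ext z; simp
  map_mul' := fun a b => by ext z; simp [mul_assoc]

lemma conjPerm_apply (n : Subgroup.normalizer (P : Set G)) (z : Invol P) :
    ((conjPerm P n z).1 : G) = (n : G) * (z.1 : G) * (n : G)⁻¹ := rfl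

section Main

variable [Finite G] (P : Sylow 2 G) (m : ℕ) (hm : 1 ≤ m)
  (e : (P : Subgroup G) ≃* Multiplicative (ZMod (2 ^ m) × ZMod (2 ^ m)))

include e in
lemma comm_mem {x y : G} (hx : x ∈ (P : Subgroup G)) (hy : y ∈ (P : Subgroup G)) : x * y = y * x :=
  congrArg Subtype.val (e.injective (by rw [map_mul, map_mul, mul_comm]) :
    (⟨x, hx⟩ : (P : Subgroup G)) * ⟨y, hy⟩ = ⟨y, hy⟩ * ⟨x, hx⟩)

include e in
lemma le_centralizer : (P : Subgroup G) ≤ Subgroup.centralizer ((P : Subgroup G) : Set G) :=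
  fun _ hx => Subgroup.mem_centralizer_iff.mpr fun _ hy => comm_mem P m e hy hx

include e hm in
lemma card_invol : Nat.card (Invol (P : Subgroup G)) = 3 := by
  rw [← card_involutions m hm]
  apply Nat.card_congr
  refine Equiv.subtypeEquiv e.toEquiv fun z => ?_
  show z * z = 1 ∧ z ≠ 1 ↔ e z * e z = 1 ∧ e z ≠ 1
  rw [← map_mul, EmbeddingLike.map_eq_one_iff, Ne, Ne, EmbeddingLike.map_eq_one_iff]

lemma relIndex_odd (h : (P : Subgroup G) ≤ Subgroup.centralizer ((P : Subgroup G) : Set G)) :
    Odd ((Subgroup.centralizer ((P : Subgroup G) : Set G)).relIndex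
      (Subgroup.normalizer ((P : Subgroup G) : Set G))) := by
  haveI : Fact (Nat.Prime 2) := ⟨Nat.prime_two⟩
  have h2 : ¬ 2 ∣ (P : Subgroup G).index := P.not_dvd_index
  have hd1 : (Subgroup.centralizer ((P : Subgroup G) : Set G)).relIndex
      (Subgroup.normalizer ((P : Subgroup G) : Set G)) ∣
      (P : Subgroup G).relIndex (Subgroup.normalizer ((P : Subgroup G) : Set G)) :=
    Subgroup.relIndex_dvd_of_le_left _ h
  have hd2 := Subgroup.relIndex_dvd_index_of_le (Subgroup.le_normalizer (H := (P : Subgroup G)))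
  rw [← Nat.not_even_iff_odd, even_iff_two_dvd]
  exact fun hk => h2 ((hk.trans hd1).trans hd2)

include e in
lemma ker_conjPerm :
    (conjPerm (P : Subgroup G)).ker =
      (Subgroup.centralizer ((P : Subgroup G) : Set G)).subgroupOf
        (Subgroup.normalizer ((P : Subgroup G) : Set G)) := by
  set N := Subgroup.normalizer ((P : Subgroup G) : Set G)
  set C := Subgroup.centralizer ((P : Subgroup G) : Set G) with hC
  have hCker : C.subgroupOf N ≤ (conjPerm (P : Subgroup G)).ker := by
    intro n hn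
    rw [MonoidHom.mem_ker]
    ext z
    rw [conjPerm_apply, Equiv.Perm.one_apply, mul_inv_eq_iff_eq_mul]
    exact (Subgroup.mem_centralizer_iff.mp (Subgroup.mem_subgroupOf.mp hn) _ z.1.2).symm
  refine le_antisymm (fun n hn => ?_) hCker
  haveI hnor : (C.subgroupOf N).Normal := by
    constructor
    intro a ha g
    rw [Subgroup.mem_subgroupOf, hC, Subgroup.mem_centralizer_iff] at ha ⊢
    intro p hp
    push_cast
    have h1 := ha _ ((Subgroup.mem_normalizer_iff''.mp g.2 p).mp hp)
    calc p * ((g : G) * (a : G) * (g : G)⁻¹)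
        = (g : G) * ((g : G)⁻¹ * p * (g : G) * (a : G)) * (g : G)⁻¹ := by group
      _ = (g : G) * ((a : G) * ((g : G)⁻¹ * p * (g : G))) * (g : G)⁻¹ := by rw [h1]
      _ = (g : G) * (a : G) * (g : G)⁻¹ * p := by group
  -- an element of odd order fixing the involutions centralises P
  have hodd : ∀ g : N, g ∈ (conjPerm (P : Subgroup G)).ker → Odd (orderOf g) → g ∈ C.subgroupOf N := by
    intro g hg ho
    rw [Subgroup.mem_subgroupOf, hC, Subgroup.mem_centralizer_iff]
    have hfix : ∀ w ∈ (P : Subgroup G), w * w = 1 → (g : G) * w * (g : G)⁻¹ = w := by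
      intro w hw hw2
      by_cases hw1 : w = 1
      · subst hw1; group
      have := DFunLike.congr_fun (MonoidHom.mem_ker.mp hg)
        (⟨⟨w, hw⟩, Subtype.ext hw2, fun h => hw1 (congrArg Subtype.val h)⟩ : Invol (P : Subgroup G))
      rw [Equiv.Perm.one_apply] at this
      exact congrArg (fun z : Invol (P : Subgroup G) => (z.1 : G)) this
    have key : ∀ j : ℕ, ∀ x ∈ (P : Subgroup G), x ^ (2 ^ j) = 1 → (g : G) * x * (g : G)⁻¹ = x := by
      intro j
      induction j with
      | zero => intro x _ hx; rw [pow_zero, pow_one] at hx; subst hx; group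
      | succ j ih =>
        intro x hx hxj
        have hgx : (g : G) * x * (g : G)⁻¹ ∈ (P : Subgroup G) := (Subgroup.mem_normalizer_iff.mp g.2 x).mp hx
        set w := (g : G) * x * (g : G)⁻¹ * x⁻¹ with hwdef
        have hwP : w ∈ (P : Subgroup G) := mul_mem hgx (inv_mem hx)
        have hx2 := ih (x * x) (mul_mem hx hx) (by rw [← pow_two, ← pow_mul, ← pow_succ']; exact hxj)
        have hw2 : w * w = 1 := by
          have hc := comm_mem P m e (inv_mem hx) hgx
          calc w * w = (g : G) * x * (g : G)⁻¹ * (x⁻¹ * ((g : G) * x * (g : G)⁻¹)) * x⁻¹ := by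
                rw [hwdef]; group
            _ = ((g : G) * (x * x) * (g : G)⁻¹) * (x * x)⁻¹ := by rw [hc]; group
            _ = 1 := by rw [hx2, mul_inv_cancel]
        have hiter : ∀ i : ℕ, (g : G) ^ i * x * ((g : G) ^ i)⁻¹ = w ^ i * x := by
          intro i
          induction i with
          | zero => simp
          | succ i ihi =>
            have hwi : (g : G) * w ^ i * (g : G)⁻¹ = w ^ i := by
              rw [← conj_pow, hfix w hwP hw2]
            calc (g : G) ^ (i + 1) * x * ((g : G) ^ (i + 1))⁻¹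
                = (g : G) * ((g : G) ^ i * x * ((g : G) ^ i)⁻¹) * (g : G)⁻¹ := by
                  rw [pow_succ']; group
              _ = ((g : G) * w ^ i * (g : G)⁻¹) * ((g : G) * x * (g : G)⁻¹) := by rw [ihi]; group
              _ = w ^ i * (w * x) := by rw [hwi, hwdef]; group
              _ = w ^ (i + 1) * x := by rw [pow_succ]; group
        have hd := hiter (orderOf g)
        rw [← Subgroup.coe_pow, pow_orderOf_eq_one, Subgroup.coe_one] at hd
        obtain ⟨r, hr⟩ := ho
        rw [hr, pow_add, pow_mul, pow_two, hw2, one_pow, one_mul, pow_one] at hd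
        simp only [one_mul, inv_one, mul_one] at hd
        have hw1 : w = 1 := mul_eq_right.mp hd.symm
        rwa [hwdef, mul_inv_eq_one] at hw1
    intro p hp
    obtain ⟨j, hj⟩ := P.isPGroup' ⟨p, hp⟩
    have := key j p hp (by simpa using congrArg Subtype.val hj)
    rw [mul_inv_eq_iff_eq_mul] at this
    exact this.symm
  -- split off the 2-part
  have hko := relIndex_odd P (le_centralizer P m e)
  obtain ⟨a, r, hr, hord⟩ := Nat.exists_eq_pow_mul_and_not_dvd (orderOf_pos n).ne' 2 (by norm_num)
  have hmem : n ^ (2 ^ a) ∈ C.subgroupOf N := by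
    refine hodd _ (pow_mem hn _) ?_
    rw [orderOf_pow, hord, Nat.gcd_eq_right (Dvd.intro r rfl), Nat.mul_div_cancel_left r (by positivity)]
    exact Nat.not_even_iff_odd.mp (fun h => hr (even_iff_two_dvd.mp h))
  have hidx : (C.subgroupOf N).index = C.relIndex N := rfl
  have h1 : ((n : N) : N ⧸ C.subgroupOf N) ^ (2 ^ a) = 1 := by
    rw [← QuotientGroup.mk_pow, QuotientGroup.eq_one_iff]; exact hmem
  have h2 : ((n : N) : N ⧸ C.subgroupOf N) ^ ((C.subgroupOf N).index) = 1 := by
    rw [Subgroup.index_eq_card]; exact pow_card_eq_one'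
  have hcop : Nat.gcd (2 ^ a) ((C.subgroupOf N).index) = 1 :=
    Nat.Coprime.pow_left _ (Nat.coprime_two_left.mpr (hidx ▸ hko))
  have h := pow_gcd_eq_one.mpr ⟨h1, h2⟩
  rw [hcop, pow_one] at h
  exact (QuotientGroup.eq_one_iff _).mp h

include e in
/-- The order of the image in the permutation group of the involutions is `|N(P):C(P)|`. -/
lemma card_range : Nat.card (conjPerm (P : Subgroup G)).range =
    (Subgroup.centralizer ((P : Subgroup G) : Set G)).relIndex
      (Subgroup.normalizer ((P : Subgroup G) : Set G)) := by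
  rw [← Subgroup.index_ker, ker_conjPerm P m e]
  rfl

include e hm in
theorem relIndex_one_or_three :
    (Subgroup.centralizer ((P : Subgroup G) : Set G)).relIndex
      (Subgroup.normalizer ((P : Subgroup G) : Set G)) = 1 ∨
    (Subgroup.centralizer ((P : Subgroup G) : Set G)).relIndex
      (Subgroup.normalizer ((P : Subgroup G) : Set G)) = 3 := by
  have hodd := relIndex_odd P (le_centralizer P m e)
  have hd := Subgroup.card_subgroup_dvd_card (conjPerm (P : Subgroup G)).range
  rw [card_range P m e, Nat.card_perm, card_invol P m hm e] at hd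
  generalize (Subgroup.centralizer ((P : Subgroup G) : Set G)).relIndex
      (Subgroup.normalizer ((P : Subgroup G) : Set G)) = k at hd hodd ⊢
  have hk : k ≤ 6 := Nat.le_of_dvd (by decide) hd
  interval_cases k <;> revert hd hodd <;> decide

include e hm in
/-- If `|N(P):C(P)| = 3`, an element of the normaliser fixing an involution centralises `P`. -/
lemma mem_centralizer_of_fixes_invol
    (h3 : (Subgroup.centralizer ((P : Subgroup G) : Set G)).relIndex
      (Subgroup.normalizer ((P : Subgroup G) : Set G)) = 3)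
    (n : Subgroup.normalizer ((P : Subgroup G) : Set G)) (w : Invol (P : Subgroup G))
    (hw : conjPerm (P : Subgroup G) n w = w) :
    (n : G) ∈ Subgroup.centralizer ((P : Subgroup G) : Set G) := by
  have hr := card_range P m e
  rw [h3] at hr
  have hpow : conjPerm (P : Subgroup G) n ^ 3 = 1 := by
    have h : (⟨conjPerm (P : Subgroup G) n, n, rfl⟩ : (conjPerm (P : Subgroup G)).range) ^ 3 = 1 := by
      rw [← hr]; exact pow_card_eq_one'
    simpa using congrArg Subtype.val h
  have hmem : n ∈ (conjPerm (P : Subgroup G)).ker :=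
    perm3_fix (card_invol P m hm e) _ w hpow hw
  rw [ker_conjPerm P m e] at hmem
  exact hmem

include e hm in
theorem mem_centralizer_of_fixes
    (hne : (Subgroup.centralizer ((P : Subgroup G) : Set G)).relIndex
      (Subgroup.normalizer ((P : Subgroup G) : Set G)) ≠ 1)
    (z : G) (hz : z ∈ (P : Subgroup G)) (hz1 : z ≠ 1) (n : G)
    (hn : n ∈ Subgroup.normalizer ((P : Subgroup G) : Set G)) (hnz : n * z = z * n) :
    n ∈ Subgroup.centralizer ((P : Subgroup G) : Set G) := by
  have h3 := (relIndex_one_or_three P m hm e).resolve_left hne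
  obtain ⟨j, hj⟩ := P.isPGroup' ⟨z, hz⟩
  have hj' : z ^ 2 ^ j = 1 := by simpa using congrArg Subtype.val hj
  obtain ⟨i, hi, hio⟩ := (Nat.dvd_prime_pow Nat.prime_two).mp (orderOf_dvd_of_pow_eq_one hj')
  have hi0 : i ≠ 0 := fun h => hz1 (orderOf_eq_one_iff.mp (by rw [hio, h, pow_zero]))
  obtain ⟨l, rfl⟩ : ∃ l, i = l + 1 := ⟨i - 1, by omega⟩
  have hw2 : z ^ 2 ^ l * z ^ 2 ^ l = 1 := by
    rw [← pow_add, ← two_mul, ← pow_succ', ← hio, pow_orderOf_eq_one]
  have hw1 : z ^ 2 ^ l ≠ 1 := fun h => by
    have := orderOf_dvd_of_pow_eq_one h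
    rw [hio, Nat.pow_dvd_pow_iff_le_right (by norm_num)] at this
    omega
  refine mem_centralizer_of_fixes_invol P m hm e h3 ⟨n, hn⟩
    ⟨⟨z ^ 2 ^ l, pow_mem hz _⟩, Subtype.ext hw2, fun h => hw1 (congrArg Subtype.val h)⟩
    (Subtype.ext (Subtype.ext ?_))
  rw [conjPerm_apply]
  show n * z ^ 2 ^ l * n⁻¹ = z ^ 2 ^ l
  rw [← conj_pow, hnz]
  simp

include e hm in
theorem exists_conj_involution
    (hne : (Subgroup.centralizer ((P : Subgroup G) : Set G)).relIndex
      (Subgroup.normalizer ((P : Subgroup G) : Set G)) ≠ 1)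
    (s t : Invol (P : Subgroup G)) :
    ∃ n ∈ Subgroup.normalizer ((P : Subgroup G) : Set G), n * (s.1 : G) * n⁻¹ = (t.1 : G) := by
  have h3 := (relIndex_one_or_three P m hm e).resolve_left hne
  have hr := card_range P m e
  rw [h3] at hr
  have hinj : Function.Injective (fun σ : (conjPerm (P : Subgroup G)).range => (σ : Equiv.Perm _) s) := by
    rintro ⟨σ, a, rfl⟩ ⟨τ, b, rfl⟩ hab
    have h' : conjPerm (P : Subgroup G) (b⁻¹ * a) s = s := by
      rw [map_mul, map_inv, Equiv.Perm.mul_apply]
      exact (Equiv.Perm.inv_eq_iff_eq).mpr hab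
    have hc := mem_centralizer_of_fixes_invol P m hm e h3 _ s h'
    have hk : b⁻¹ * a ∈ (conjPerm (P : Subgroup G)).ker := by
      rw [ker_conjPerm P m e]; exact hc
    rw [MonoidHom.mem_ker, map_mul, map_inv, inv_mul_eq_one] at hk
    exact Subtype.ext hk.symm
  obtain ⟨⟨σ, a, rfl⟩, ha⟩ := (hinj.bijective_of_nat_card_le (by rw [hr, card_invol P m hm e])).2 t
  exact ⟨a, a.2, congrArg (fun z : Invol (P : Subgroup G) => (z.1 : G)) ha⟩

end Main

end Cfsg.Agent.Homocyclic
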